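import Mathlib

set_option autoImplicit false
universe u v

namespace Groth.Agent.Hopf2x8
open TensorProduct

theorem rank_two (R : Type u) [CommRing R] (A : Type v) [CommRing A] [HopfAlgebra R A]
    (x : A) (hx : Bialgebra.counitAlgHom R A x = 0)
    (hgen : ∀ f : A, Bialgebra.counitAlgHom R A f = 0 → ∃ r : R, f = r • x)
    (hfree : ∀ r : R, r • x = 0 → r = 0) :
    ∃ a b : R, x * x = a • x ∧
      Bialgebra.comulAlgHom R A x = x ⊗ₜ[R] 1 + 1 ⊗ₜ[R] x + b • (x ⊗ₜ[R] x) ∧ a * b = -2 := by
  classical
  set ε := Bialgebra.counitAlgHom R A with hε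
  have hdec : ∀ f : A, ∃ r : R, f = ε f • 1 + r • x := fun f => by
    obtain ⟨r, hr⟩ := hgen (f - ε f • 1) (by rw [map_sub, map_smul, map_one, smul_eq_mul, mul_one, sub_self])
    exact ⟨r, by rw [← hr, add_sub_cancel]⟩
  choose φ hφ using hdec
  have uniq : ∀ (f : A) (r : R), f = ε f • 1 + r • x → φ f = r := fun f r h => by
    have h1 : (φ f - r) • x = 0 := by rw [sub_smul, sub_eq_zero]; exact add_left_cancel ((hφ f).symm.trans h)
    exact sub_eq_zero.mp (hfree _ h1)
  let Φ : A →ₗ[R] R :=
    { toFun := φ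
      map_add' := fun f g => uniq _ _ (by rw [map_add]; conv_lhs => rw [hφ f, hφ g]
                                          simp only [add_smul]; abel)
      map_smul' := fun c f => uniq _ _ (by rw [map_smul]; conv_lhs => rw [hφ f]
                                           simp only [smul_add, smul_smul, smul_eq_mul, RingHom.id_apply]) }
  have hΦx : Φ x = 1 := uniq _ _ (by simp [hx])
  have hΦ1 : Φ 1 = 0 := uniq _ _ (by simp [hε])
  obtain ⟨a, ha⟩ := hgen (x * x) (by rw [map_mul, hx, mul_zero])
  have hspan : ∀ z : A ⊗[R] A, ∃ p q q' b : R, z = p • (1 ⊗ₜ[R] 1) + q • (x ⊗ₜ[R] 1) + q' • (1 ⊗ₜ[R] x) + b • (x ⊗ₜ[R] x) := by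
    intro z
    induction z using TensorProduct.induction_on with
    | zero => exact ⟨0, 0, 0, 0, by simp⟩
    | tmul f g =>
      refine ⟨ε f * ε g, φ f * ε g, ε f * φ g, φ f * φ g, ?_⟩
      conv_lhs => rw [hφ f, hφ g]
      simp only [add_tmul, tmul_add, ← smul_tmul', tmul_smul, smul_smul]
      module
    | add u w hu hw =>
      obtain ⟨p, q, q', b, rfl⟩ := hu
      obtain ⟨p2, q2, q2', b2, rfl⟩ := hw
      exact ⟨p + p2, q + q2, q' + q2', b + b2, by module⟩
  obtain ⟨p, q, q', b, hΔ⟩ := hspan (Coalgebra.comul (R := R) x)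
  have hε1 : Coalgebra.counit (R := R) (1 : A) = 1 := Bialgebra.counit_one
  have hεx : Coalgebra.counit (R := R) x = 0 := hx
  have l1 := congrArg (TensorProduct.lid R A) (Coalgebra.rTensor_counit_comul (R := R) x)
  rw [hΔ] at l1
  simp only [map_add, map_smul, LinearMap.rTensor_tmul, TensorProduct.lid_tmul, hε1, hεx, one_smul, zero_smul, smul_zero, add_zero] at l1
  have hp : p = 0 := by
    have := congrArg ε l1
    simpa [hx] using this
  have hq' : q' = 1 := by
    rw [hp, zero_smul, zero_add] at l1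
    exact sub_eq_zero.mp (hfree _ (by rw [sub_smul, one_smul, sub_eq_zero]; exact l1))
  have l2 := congrArg (TensorProduct.rid R A) (Coalgebra.lTensor_counit_comul (R := R) x)
  rw [hΔ] at l2
  simp only [map_add, map_smul, LinearMap.lTensor_tmul, TensorProduct.rid_tmul, hε1, hεx, one_smul, zero_smul, smul_zero, add_zero] at l2
  have hq : q = 1 := by
    rw [hp, zero_smul, zero_add] at l2
    exact sub_eq_zero.mp (hfree _ (by rw [sub_smul, one_smul, sub_eq_zero]; exact l2))
  rw [hp, hq, hq', zero_smul, zero_add, one_smul, one_smul] at hΔ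
  refine ⟨a, b, ha, hΔ, ?_⟩
  have hsq : Coalgebra.comul (R := R) x * Coalgebra.comul (R := R) x = a • Coalgebra.comul (R := R) x := by
    rw [← Bialgebra.comul_mul, ha, map_smul]
  rw [hΔ] at hsq
  simp only [add_mul, mul_add, smul_mul_assoc, mul_smul_comm, Algebra.TensorProduct.tmul_mul_tmul, mul_one, one_mul, ha, tmul_smul, ← smul_tmul', smul_smul, smul_add] at hsq
  have hquad : (a * b + 2) * (a * b + 1) = 0 := by
    have h2 := congrArg (fun z => TensorProduct.lid R R (TensorProduct.map Φ Φ z)) hsq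
    simp only [map_add, map_smul, TensorProduct.map_tmul, TensorProduct.lid_tmul, hΦx, hΦ1, smul_eq_mul, mul_zero, zero_mul, mul_one, add_zero, zero_add] at h2
    linear_combination h2
  obtain ⟨c, hc⟩ := hgen (HopfAlgebra.antipode R x) (by
    show Coalgebra.counit (R := R) (HopfAlgebra.antipode R x) = 0
    rw [HopfAlgebra.counit_antipode, hεx])
  have h3 := HopfAlgebra.mul_antipode_rTensor_comul_apply (R := R) x
  rw [hΔ] at h3
  simp only [map_add, map_smul, LinearMap.rTensor_tmul, LinearMap.mul'_apply, HopfAlgebra.antipode_one, hc, hεx, map_zero, one_mul, mul_one, smul_mul_assoc, ha, smul_smul] at h3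
  have h4 : c + 1 + b * (c * a) = 0 := hfree _ (by rw [add_smul, add_smul, one_smul]; exact h3)
  linear_combination (-c) * hquad + (a * b + 2) * h4

end Groth.Agent.Hopf2x8
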